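import Groth.Agent.PinchPO7.ChartGlued
import Groth.Agent.PinchPO7.HomGlue
import Groth.Agent.RingPO.Props
import Groth.Agent.S9383
import Groth.Agent.Lib.SectionGamma

/-!
The square of two closed subschemes with `I ⊓ J = ⊥`, and functions on the intersection.
-/

universe u
set_option autoImplicit false
open CategoryTheory CategoryTheory.Limits AlgebraicGeometry TopologicalSpace Opposite

namespace Groth.Agent.GrLib8.PicUnion

variable {X B : Scheme.{u}}

theorem isPushout_union (I J : X.IdealSheafData) (hIJ : I ⊓ J = ⊥) :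
    IsPushout (Scheme.IdealSheafData.inclusion (le_sup_left : I ≤ I ⊔ J))
      (Scheme.IdealSheafData.inclusion (le_sup_right : J ≤ I ⊔ J)) I.subschemeι J.subschemeι := by
  haveI : IsIso (I ⊓ J).subschemeι := (Scheme.isIso_subschemeι_iff_eq_bot _).mpr hIJ
  refine (S9383.result X I J).of_iso (Iso.refl _) (Iso.refl _) (Iso.refl _) (asIso (I ⊓ J).subschemeι)
    (by simp) (by simp) (by simp) (by simp)

theorem isGluedSquare_union (I J : X.IdealSheafData) (hIJ : I ⊓ J = ⊥) :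
    PinchPO7.IsGluedSquare (Scheme.IdealSheafData.inclusion (le_sup_left : I ≤ I ⊔ J))
      (Scheme.IdealSheafData.inclusion (le_sup_right : J ≤ I ⊔ J)) I.subschemeι J.subschemeι :=
  PinchPO7.isGluedSquare_of_pushout (isPushout_union I J hIJ)
    (RingPO.chart_of_affineHom (isPushout_union I J hIJ).w)

theorem secGlue_of_glued {Z Y₁ Y₂ P : Scheme.{u}} {i : Z ⟶ Y₁} {j : Z ⟶ Y₂} {a : Y₁ ⟶ P} {b : Y₂ ⟶ P}
    (G : PinchPO7.IsGluedSquare i j a b) : PinchPO7.SecGlue i j a b := by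
  intro W
  refine ⟨fun s t h1 h2 => G.sec_ext W s t h1 h2, fun p => G.sec_glue W p.1.1 p.1.2 (G.preimage_le W) ?_⟩
  have h : i ⁻¹ᵁ a ⁻¹ᵁ W ≤ PinchPO7.zOpen i j a b W := le_inf le_rfl (G.preimage_le W)
  have h1 := congrArg (fun z => Z.presheaf.map (homOfLE h).op z) p.2
  have e1 := congrArg (fun φ : Γ(Y₁, a ⁻¹ᵁ W) ⟶ Γ(Z, i ⁻¹ᵁ a ⁻¹ᵁ W) => φ p.1.1)
    (Scheme.Hom.appLE_map i (inf_le_left : PinchPO7.zOpen i j a b W ≤ i ⁻¹ᵁ a ⁻¹ᵁ W) (homOfLE h).op)
  have e2 := congrArg (fun φ : Γ(Y₂, b ⁻¹ᵁ W) ⟶ Γ(Z, i ⁻¹ᵁ a ⁻¹ᵁ W) => φ p.1.2)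
    (Scheme.Hom.appLE_map j (inf_le_right : PinchPO7.zOpen i j a b W ≤ j ⁻¹ᵁ b ⁻¹ᵁ W) (homOfLE h).op)
  exact e1.symm.trans (h1.trans e2)

/-- Constant functions on the fibres from reduced connected geometric fibres. -/
theorem constFibres_of_hfib {W : Scheme.{u}} (f : W ⟶ B) [IsProper f]
    (hfib : ∀ (K : Type u) [Field K] [IsAlgClosed K] (g : Spec (CommRingCat.of K) ⟶ B),
      IsReduced (pullback f g) ∧ ConnectedSpace ↥(pullback f g)) : H23.RigidApply.ConstFibres f := fun s => by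
  let t := Spec.map (CommRingCat.ofHom (algebraMap (B.residueField s) (AlgebraicClosure (B.residueField s))))
  obtain ⟨h1, h2⟩ := hfib (AlgebraicClosure (B.residueField s)) (t ≫ B.fromSpecResidueField s)
  haveI := h1
  haveI := h2
  let e := pullbackLeftPullbackSndIso f (B.fromSpecResidueField s) t
  haveI : ConnectedSpace ↥(pullback (pullback.snd f (B.fromSpecResidueField s)) t) :=
    e.hom.homeomorph.connectedSpace_iff.mpr inferInstance
  haveI : IsReduced (pullback (pullback.snd f (B.fromSpecResidueField s)) t) :=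
    isReduced_of_isOpenImmersion e.hom
  exact H23.RigidGamma.bijective_appTop_of_algClosure (k := B.residueField s)
    (pullback.snd f (B.fromSpecResidueField s))

/-- Units on the intersection come from the base. -/
theorem exists_unit_of_section {W : Scheme.{u}} (f : W ⟶ B) [IsProper f] [Flat f] [LocallyOfFinitePresentation f]
    (e : B ⟶ W) (he : e ≫ f = 𝟙 B)
    (hfib : ∀ (K : Type u) [Field K] [IsAlgClosed K] (g : Spec (CommRingCat.of K) ⟶ B),
      IsReduced (pullback f g) ∧ ConnectedSpace ↥(pullback f g)) (w : Γ(W, ⊤)ˣ) :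
    ∃ v : Γ(B, ⊤)ˣ, f.appTop (v : Γ(B, ⊤)) = (w : Γ(W, ⊤)) := by
  have hb : Function.Bijective f.appTop :=
    SectionGamma.bijective_app f (constFibres_of_hfib f hfib) e he ⊤
  let φ := RingEquiv.ofBijective f.appTop.hom hb
  refine ⟨Units.map φ.symm.toRingHom.toMonoidHom w, ?_⟩
  exact φ.apply_symm_apply (w : Γ(W, ⊤))

end Groth.Agent.GrLib8.PicUnion
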