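import Groth.Agent.GrLib8.PicUnion.Scalar
import Groth.Agent.GrLib8.PicUnion.Square
import Groth.Agent.PinchPO7.VBGlue
import Groth.Agent.Lib.InvEnd

/-!
Invertible modules on a union of two closed subschemes.
-/

universe u
set_option autoImplicit false
set_option backward.isDefEq.respectTransparency.types false
open CategoryTheory CategoryTheory.Limits AlgebraicGeometry TopologicalSpace Opposite

namespace Groth.Agent.GrLib8.PicUnion

variable {W Y Z X B : Scheme.{u}} {wY : W ⟶ Y} {wZ : W ⟶ Z} {iY : Y ⟶ X} {iZ : Z ⟶ X} {π : X ⟶ B}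

theorem isFinLocFree_of_invertible {L : X.Modules} (hL : PicF.IsInvertible L) : FlatMod.IsFinLocFree L :=
  fun x => let ⟨U, hx, e⟩ := InvEnd.isFinLocFreeOfRank_one hL x; ⟨U, 1, hx, e⟩

theorem isInvertible_of_rank_one {M : X.Modules} (h : FlatMod.IsFinLocFreeOfRank 1 M) : PicF.IsInvertible M :=
  fun x => let ⟨U, hx, ⟨e⟩⟩ := h x; ⟨U, hx, ⟨e ≪≫ coproductUniqueIso _⟩⟩

/-- Units on the intersection come from the base. -/
def UnitsFromBase (f : W ⟶ B) : Prop :=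
  ∀ w : Γ(W, ⊤)ˣ, ∃ v : Γ(B, ⊤)ˣ, f.appTop (v : Γ(B, ⊤)) = (w : Γ(W, ⊤))

theorem iso_inv_swap {A A' C C' : W.Modules} (p : A ≅ C) (q : C ≅ C') (r : A ≅ A') (t : A' ≅ C')
    (h : p.hom ≫ q.hom = r.hom ≫ t.hom) : p.inv ≫ r.hom = q.hom ≫ t.inv := by
  rw [Iso.inv_comp_eq, ← Category.assoc, Iso.eq_comp_inv]
  exact h.symm

/-- An invertible module trivial on both pieces is trivial. -/
theorem trivial_of_restrict (G : PinchPO7.IsGluedSquare wY wZ iY iZ) (hu : UnitsFromBase (wY ≫ iY ≫ π))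
    {L : X.Modules} (hL : PicF.IsInvertible L)
    (eY : (Scheme.Modules.pullback iY).obj L ≅ (Scheme.Modules.pullback iY).obj (Coh.structureModule X))
    (eZ : (Scheme.Modules.pullback iZ).obj L ≅ (Scheme.Modules.pullback iZ).obj (Coh.structureModule X)) :
    Nonempty (L ≅ Coh.structureModule X) := by
  let O := Coh.structureModule X
  let H := secGlue_of_glued G
  let FY := Scheme.Modules.pullback wY
  let FZ := Scheme.Modules.pullback wZ
  let sO := PinchPO7.swapIso G.w O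
  let sL := PinchPO7.swapIso G.w L
  let α : FY.obj ((Scheme.Modules.pullback iY).obj L) ≅ FZ.obj ((Scheme.Modules.pullback iZ).obj O) :=
    FY.mapIso eY ≪≫ sO
  let β : FY.obj ((Scheme.Modules.pullback iY).obj L) ≅ FZ.obj ((Scheme.Modules.pullback iZ).obj O) :=
    sL ≪≫ FZ.mapIso eZ
  obtain ⟨t1⟩ := pullback_structure iZ
  obtain ⟨t2⟩ := pullback_structure wZ
  obtain ⟨w, hw⟩ := exists_scIso_eq (FZ.mapIso t1 ≪≫ t2) (α.symm ≪≫ β)
  obtain ⟨v, hv⟩ := hu w
  let vY : Γ(Y, ⊤)ˣ := Units.map ((iY ≫ π).appTop.hom : Γ(B, ⊤) →* Γ(Y, ⊤)) v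
  let eY' := eY ≪≫ scIso _ vY
  have hwv : wY.appTop (vY : Γ(Y, ⊤)) = (w : Γ(W, ⊤)) := by
    refine Eq.trans ?_ hv
    rfl
  have key : FY.map eY'.hom ≫ sO.hom = sL.hom ≫ FZ.map eZ.hom := by
    have h2 : FY.map (sc ((Scheme.Modules.pullback iY).obj O) (vY : Γ(Y, ⊤))) ≫ sO.hom =
        sO.hom ≫ sc _ (w : Γ(W, ⊤)) := by
      rw [pullback_sc, hwv]
      exact sc_natural _ _
    calc FY.map eY'.hom ≫ sO.hom
        = FY.map eY.hom ≫ FY.map (sc ((Scheme.Modules.pullback iY).obj O) (vY : Γ(Y, ⊤))) ≫ sO.hom := by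
          rw [← Category.assoc, ← Functor.map_comp]; rfl
      _ = FY.map eY.hom ≫ sO.hom ≫ sc _ (w : Γ(W, ⊤)) := by rw [h2]
      _ = α.hom ≫ (α.symm ≪≫ β).hom := by rw [hw]; exact (Category.assoc _ _ _).symm
      _ = β.hom := α.hom_inv_id_assoc _
  have key' : FY.map eY'.inv ≫ sL.hom = sO.hom ≫ FZ.map eZ.inv :=
    iso_inv_swap (FY.mapIso eY') sO sL (FZ.mapIso eZ) key
  have hO : FlatMod.IsFinLocFree O := isFinLocFree_of_invertible (PicLoc.isInvertible_structureModule X)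
  have hLf := isFinLocFree_of_invertible hL
  obtain ⟨φ, hφY, hφZ⟩ := PinchPO7.hom_glue (N := O) H G.w hO eY'.hom eZ.hom key
  obtain ⟨ψ, hψY, hψZ⟩ := PinchPO7.hom_glue (N := L) H G.w hLf eY'.inv eZ.inv key'
  exact ⟨⟨φ, ψ,
    PinchPO7.hom_ext_glue H hLf (by rw [Functor.map_comp, hφY, hψY, eY'.hom_inv_id, CategoryTheory.Functor.map_id])
      (by rw [Functor.map_comp, hφZ, hψZ, eZ.hom_inv_id, CategoryTheory.Functor.map_id]),
    PinchPO7.hom_ext_glue H hO (by rw [Functor.map_comp, hφY, hψY, eY'.inv_hom_id, CategoryTheory.Functor.map_id])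
      (by rw [Functor.map_comp, hφZ, hψZ, eZ.inv_hom_id, CategoryTheory.Functor.map_id])⟩⟩

/-- Invertible modules with isomorphic restrictions glue. -/
theorem exists_glued_inv [IsClosedImmersion wY] [IsClosedImmersion iY] [IsClosedImmersion iZ]
    (G : PinchPO7.IsGluedSquare wY wZ iY iZ) {Ly : Y.Modules} {Lz : Z.Modules}
    (hy : PicF.IsInvertible Ly) (hz : PicF.IsInvertible Lz)
    (σ : (Scheme.Modules.pullback wY).obj Ly ≅ (Scheme.Modules.pullback wZ).obj Lz) :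
    ∃ M : X.Modules, PicF.IsInvertible M ∧ Nonempty ((Scheme.Modules.pullback iY).obj M ≅ Ly) ∧
      Nonempty ((Scheme.Modules.pullback iZ).obj M ≅ Lz) := by
  obtain ⟨M, eX, eZ, hM, -⟩ := PinchPO7.exists_glued σ G (InvEnd.isFinLocFreeOfRank_one hy)
    (InvEnd.isFinLocFreeOfRank_one hz)
  exact ⟨M, isInvertible_of_rank_one hM, ⟨eX⟩, ⟨eZ⟩⟩

end Groth.Agent.GrLib8.PicUnion
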