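import Groth.Agent.PinchPO7.HomGlue
import Groth.Agent.Lib.CurveEnd
import Groth.Prelude.Def_PicGrp

/-!
Scalar endomorphisms of modules and their behaviour under pullback.
-/

universe u
set_option autoImplicit false
set_option backward.isDefEq.respectTransparency.types false
open CategoryTheory CategoryTheory.Limits AlgebraicGeometry TopologicalSpace Opposite

namespace Groth.Agent.GrLib8.PicUnion

variable {X Y : Scheme.{u}}

/-- Multiplication by a global function. -/
noncomputable abbrev sc (M : X.Modules) (c : Γ(X, ⊤)) : M ⟶ M := CurveEnd.smulMod M c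

theorem sc_natural {M N : X.Modules} (φ : M ⟶ N) (c : Γ(X, ⊤)) : sc M c ≫ φ = φ ≫ sc N c := by
  refine Scheme.Modules.hom_ext _ _ fun W => ?_
  ext x
  show φ.app W ((sc M c).app W x) = (sc N c).app W (φ.app W x)
  rw [CurveEnd.smulMod_app, CurveEnd.smulMod_app, Scheme.Modules.Hom.app_smul]

theorem sc_mul (M : X.Modules) (a b : Γ(X, ⊤)) : sc M (a * b) = sc M b ≫ sc M a :=
  (CurveEnd.scalar M).map_mul a b

theorem sc_one (M : X.Modules) : sc M 1 = 𝟙 M := (CurveEnd.scalar M).map_one

/-- Multiplication by a global unit. -/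
noncomputable def scIso (M : X.Modules) (v : Γ(X, ⊤)ˣ) : M ≅ M where
  hom := sc M (v : Γ(X, ⊤))
  inv := sc M ((v⁻¹ : Γ(X, ⊤)ˣ) : Γ(X, ⊤))
  hom_inv_id := by rw [← sc_mul, Units.inv_mul, sc_one]
  inv_hom_id := by rw [← sc_mul, Units.mul_inv, sc_one]

theorem pushforward_sc (f : X ⟶ Y) (N : X.Modules) (c : Γ(Y, ⊤)) :
    (Scheme.Modules.pushforward f).map (sc N (f.appTop c)) = sc ((Scheme.Modules.pushforward f).obj N) c := by
  refine Scheme.Modules.hom_ext _ _ fun V => ?_
  ext m
  show (sc N (f.appTop c)).app (f ⁻¹ᵁ V) m = _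
  rw [CurveEnd.smulMod_app, CurveEnd.smulMod_app]
  have h : X.presheaf.map (homOfLE (le_top (a := f ⁻¹ᵁ V))).op (f.appTop c) =
      f.app V (Y.presheaf.map (homOfLE (le_top (a := V))).op c) :=
    (congr($(f.naturality (homOfLE (le_top (a := V))).op) c)).symm
  rw [h]
  rfl

theorem pullback_sc (f : X ⟶ Y) (M : Y.Modules) (c : Γ(Y, ⊤)) :
    (Scheme.Modules.pullback f).map (sc M c) = sc ((Scheme.Modules.pullback f).obj M) (f.appTop c) := by
  let adj := Scheme.Modules.pullbackPushforwardAdjunction f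
  apply (adj.homEquiv _ _).injective
  rw [← Category.comp_id ((Scheme.Modules.pullback f).map _), adj.homEquiv_naturality_left,
    adj.homEquiv_unit, adj.homEquiv_unit, pushforward_sc f, CategoryTheory.Functor.map_id]
  erw [Category.comp_id]
  exact sc_natural _ c

theorem app_structure (θ : Coh.structureModule X ⟶ Coh.structureModule X) (W : X.Opens)
    (x : Γ(Coh.structureModule X, W)) :
    θ.app W x = (show Γ(X, W) from x) • θ.app W (show Γ(Coh.structureModule X, W) from (1 : Γ(X, W))) := by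
  rw [← Scheme.Modules.Hom.app_smul]
  congr 1
  show x = (show Γ(X, W) from x) * (1 : Γ(X, W))
  exact (mul_one (show Γ(X, W) from x)).symm

theorem exists_sc_structure (θ : Coh.structureModule X ⟶ Coh.structureModule X) :
    ∃ c : Γ(X, ⊤), θ = sc (Coh.structureModule X) c := by
  refine ⟨θ.app ⊤ (show Γ(Coh.structureModule X, ⊤) from (1 : Γ(X, ⊤))), ?_⟩
  refine Scheme.Modules.hom_ext _ _ fun W => ?_
  ext x
  rw [app_structure θ W x, CurveEnd.smulMod_app]
  have h1 := ConcreteCategory.congr_hom (θ.mapPresheaf.naturality (homOfLE (le_top (a := W))).op)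
    (show Γ(Coh.structureModule X, ⊤) from (1 : Γ(X, ⊤)))
  have h2 : X.presheaf.map (homOfLE (le_top (a := W))).op (1 : Γ(X, ⊤)) = 1 := map_one _
  have h3 : θ.app W (show Γ(Coh.structureModule X, W) from (1 : Γ(X, W))) =
      (Coh.structureModule X).presheaf.map (homOfLE (le_top (a := W))).op
        (θ.app ⊤ (show Γ(Coh.structureModule X, ⊤) from (1 : Γ(X, ⊤)))) := by
    rw [← h2]
    exact h1
  rw [h3]
  exact mul_comm (G := Γ(X, W)) _ _

theorem exists_sc_eq {M : X.Modules} (e : M ≅ Coh.structureModule X) (θ : M ⟶ M) :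
    ∃ c : Γ(X, ⊤), θ = sc M c := by
  obtain ⟨c, hc⟩ := exists_sc_structure (e.inv ≫ θ ≫ e.hom)
  refine ⟨c, ?_⟩
  rw [← cancel_mono e.hom, sc_natural, ← hc, e.hom_inv_id_assoc]

theorem sc_structure_injective : Function.Injective (sc (Coh.structureModule X)) := by
  intro a b h
  have h1 := congrArg (fun φ : Coh.structureModule X ⟶ Coh.structureModule X =>
    φ.app ⊤ (show Γ(Coh.structureModule X, ⊤) from (1 : Γ(X, ⊤)))) h
  simp only [CurveEnd.smulMod_app] at h1
  have hid : ∀ c : Γ(X, ⊤), X.presheaf.map (homOfLE (le_top (a := (⊤ : X.Opens)))).op c = c := fun c => by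
    rw [show (homOfLE (le_top (a := (⊤ : X.Opens)))).op = 𝟙 (op (⊤ : X.Opens)) from Subsingleton.elim _ _,
      CategoryTheory.Functor.map_id]
    rfl
  rw [hid, hid] at h1
  exact (mul_one a).symm.trans (h1.trans (mul_one b))

theorem sc_injective {M : X.Modules} (e : M ≅ Coh.structureModule X) : Function.Injective (sc M) := by
  intro a b h
  refine sc_structure_injective ?_
  rw [← cancel_epi e.hom, ← sc_natural, ← sc_natural, h]

theorem exists_scIso_eq {M : X.Modules} (e : M ≅ Coh.structureModule X) (θ : M ≅ M) :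
    ∃ v : Γ(X, ⊤)ˣ, θ.hom = sc M (v : Γ(X, ⊤)) := by
  obtain ⟨a, ha⟩ := exists_sc_eq e θ.hom
  obtain ⟨b, hb⟩ := exists_sc_eq e θ.inv
  refine ⟨⟨a, b, sc_injective e ?_, sc_injective e ?_⟩, ha⟩
  · rw [sc_mul, ← ha, ← hb, θ.inv_hom_id, sc_one]
  · rw [sc_mul, ← ha, ← hb, θ.hom_inv_id, sc_one]

theorem pullback_structure (f : X ⟶ Y) :
    Nonempty ((Scheme.Modules.pullback f).obj (Coh.structureModule Y) ≅ Coh.structureModule X) :=
  (PicGrp.cl_eq_cl_iff _ _).mp (congrArg Subtype.val (PicLoc.invCl_map_unitPicSet f) :)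

end Groth.Agent.GrLib8.PicUnion
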